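import Cfsg.Agent.RankTwoP.Trichotomy
import Cfsg.Agent.S0112

/-!
Normal forms in the exceptional cases of the trichotomy.
-/

set_option autoImplicit false

open Subgroup
open scoped commutatorElement

namespace CfsgLib.RankTwoP

universe u

variable {G : Type u} [Group G] [Finite G] {p : ℕ} [hp : Fact p.Prime] (hp2 : p ≠ 2)
  (hG : IsPGroup p G) {W : Subgroup G} (D : Data p W)
include hp2 hG D

omit hp2 in
/-- The small case has maximal class. -/
theorem Small.maximal_class (hS : Small p W) (n : ℕ) (hn : Nat.card G = p ^ n) :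
    2 ≤ n ∧ (⊤ : Subgroup G).lowerCentralSeries (n - 2) ≠ ⊥ := by
  obtain ⟨-, g, hg, hfix⟩ := hS
  set C := centralizer (W : Set G) with hC
  haveI := D.normal
  obtain ⟨w₁, hw₁, hw₁c⟩ := D.exists_not_center hG
  obtain ⟨z, hzW, hzc, hzp, hz1, hconj, hspan, hdvd⟩ := D.basis hG hg hw₁ hw₁c
  set A := centralizer ({g} : Set G) with hA
  have hgA : g ∈ A := mem_centralizer_singleton_iff.mpr rfl
  have hAC : C ⊓ A = zpowers z := by
    refine le_antisymm (fun c hc => ?_) (zpowers_le.mpr ⟨D.le_centralizer hzW,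
      mem_centralizer_singleton_iff.mpr (Subgroup.mem_center_iff.mp hzc g).symm⟩)
    obtain ⟨hcW, hcc⟩ := hfix c hc.1 (mem_centralizer_singleton_iff.mp hc.2).symm
    obtain ⟨i, j, rfl⟩ := hspan c hcW
    obtain ⟨d, hd⟩ := hdvd i j hcc
    rw [hd, pow_mul, D.elem.2 _ hw₁, one_pow, one_mul]
    exact pow_mem (mem_zpowers z) j
  have hcardA : Nat.card A = p ^ 2 := by
    have h1 := ((C ⊓ A).subgroupOf A).card_mul_index
    rw [Nat.card_congr (subgroupOfEquivOfLe (inf_le_right : C ⊓ A ≤ A)).toEquiv, hAC,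
      Nat.card_zpowers, orderOf_eq_prime hzp hz1, ← hAC] at h1
    have h2 : ((C ⊓ A).subgroupOf A).index = C.relIndex A := inf_relIndex_right C A
    rw [h2] at h1
    have h3 : C.relIndex A ∣ p := by
      haveI : C.Normal := normal_centralizer
      exact D.index_centralizer hG ▸ relIndex_dvd_index_of_normal C A
    have h4 : C.relIndex A ≠ 1 := fun h => hg (relIndex_eq_one.mp h hgA)
    rw [((Nat.dvd_prime hp.out).mp h3).resolve_left h4] at h1
    rw [← h1, pow_two]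
  have hCA : centralizer (A : Set G) = A := by
    refine le_antisymm (fun x hx => ?_) (fun x hx => ?_)
    · exact mem_centralizer_singleton_iff.mpr (hx g hgA).symm
    · have hcom := IsPGroup.commutative_of_card_eq_prime_sq hcardA
      exact fun y hy => congrArg Subtype.val (hcom ⟨y, hy⟩ ⟨x, hx⟩)
  have hcl := Cfsg.Agent.S0112.result n hn A hcardA hCA
  have hn2 : 2 ≤ n :=
    (Nat.pow_dvd_pow_iff_le_right hp.out.one_lt).mp (hn ▸ hcardA ▸ A.card_subgroup_dvd_card)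
  haveI := hG.isNilpotent
  refine ⟨hn2, fun h => ?_⟩
  have := Subgroup.lowerCentralSeries_eq_bot_iff_nilpotencyClass_le.mp h
  omega

/-- The normal forms when some element of order `p` outside the centralizer is central modulo
`W`. -/
theorem Extra.forms (hE : Extra p W) (n : ℕ) (hn : Nat.card G = p ^ n) :
    (3 ≤ n ∧ ∃ x y z : G, Subgroup.closure ({x, y, z} : Set G) = ⊤ ∧ x ^ p = 1 ∧ y ^ p = 1 ∧
        z ^ p ^ (n - 2) = 1 ∧ x * z = z * x ∧ y * z = z * y ∧
        x⁻¹ * y * x = y * z ^ p ^ (n - 3)) ∨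
    (4 ≤ n ∧ ∃ (s : ℕ) (x y z : G), (s = 1 ∨ ¬ IsSquare (s : ZMod p)) ∧
        Subgroup.closure ({x, y, z} : Set G) = ⊤ ∧ x ^ p = 1 ∧ y ^ p = 1 ∧ z ^ p ^ (n - 2) = 1 ∧
        y * z = z * y ∧ x⁻¹ * y * x = y * z ^ (s * p ^ (n - 3)) ∧ x⁻¹ * z * x = y * z) := by
  classical
  obtain ⟨a, ha, hap, haW⟩ := hE
  haveI := D.normal
  set C := centralizer (W : Set G) with hC
  obtain ⟨w₁, hw₁, hw₁c⟩ := D.exists_not_center hG
  obtain ⟨z, hzW, hzc, hzp, hz1, hconj, hspan, hdvd⟩ := D.basis hG ha hw₁ hw₁c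
  have hw₁p : w₁ ^ p = 1 := D.elem.2 w₁ hw₁
  have hzcomm : ∀ g, Commute z g := fun g => (Subgroup.mem_center_iff.mp hzc g).symm
  have hB : ∀ u ∈ C, u ^ (p ^ 2) = 1 → u ^ p ∈ center G := by
    intro u hu hu2
    have hupW : u ^ p ∈ W := D.omega _ (pow_mem hu p) (by rw [← pow_mul, ← pow_two]; exact hu2)
    refine mem_center_of_fixed hw₁p hzp hz1 hzc hconj hspan hupW ?_
    have hcW : ⁅a, u⁆ ∈ W := by rw [← commutatorElement_inv]; exact inv_mem (haW u)
    rw [← conj_pow, show a * u * a⁻¹ = ⁅a, u⁆ * u by rw [commutatorElement_def]; group,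
      (show Commute ⁅a, u⁆ u from (le_center_of_mem_centralizer hcW hu).symm).mul_pow,
      D.elem.2 _ hcW, one_mul]
  obtain ⟨x, hxC, hgen⟩ := exists_cyclic_gen hp2 hG D hB
  -- `W` and `a` and `x` generate
  have hgenG : ∀ H : Subgroup G, a ∈ H → w₁ ∈ H → z ∈ H → x ∈ H → H = ⊤ := by
    intro H h1 h2 h3 h4
    rw [eq_top_iff]
    intro g _
    obtain ⟨i, c, hc, rfl⟩ := D.exists_decomp hG ha g
    obtain ⟨k, v, hv, rfl⟩ := hgen c hc
    obtain ⟨i', j', rfl⟩ := hspan v hv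
    exact mul_mem (mul_mem (pow_mem h4 k) (mul_mem (pow_mem h2 i') (pow_mem h3 j'))) (pow_mem h1 i)
  by_cases hxW : x ∈ W
  · left
    have hCW : C = W := le_antisymm (fun c hc => by
      obtain ⟨k, v, hv, rfl⟩ := hgen c hc
      exact mul_mem (pow_mem hxW k) hv) D.le_centralizer
    have h3 : n = 3 := by
      have h := D.card_eq hG
      rw [hn, ← hC, hCW, D.card, ← pow_succ'] at h
      exact Nat.pow_right_injective hp.out.two_le h
    subst h3
    refine ⟨le_rfl, a⁻¹, w₁, z, ?_, by rw [inv_pow, hap, inv_one], hw₁p, by simpa using hzp,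
      (hzcomm a⁻¹).eq.symm, (hzcomm w₁).eq.symm, ?_⟩
    · have ha' : a ∈ Subgroup.closure ({a⁻¹, w₁, z} : Set G) := by
        simpa using inv_mem (Subgroup.subset_closure (by simp) : a⁻¹ ∈ Subgroup.closure ({a⁻¹, w₁, z} : Set G))
      obtain ⟨i, j, hij⟩ := hspan x hxW
      refine hgenG _ ha' (subset_closure (by simp)) (subset_closure (by simp)) ?_
      rw [hij]
      exact mul_mem (pow_mem (subset_closure (by simp)) i) (pow_mem (subset_closure (by simp)) j)
    · rw [inv_inv, hconj, (hzcomm w₁).eq]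
      simp
  obtain ⟨e, he⟩ := IsPGroup.iff_orderOf.mp hG x
  have he2 : 2 ≤ e := by
    by_contra h
    refine hxW (D.omega x hxC ?_)
    exact orderOf_dvd_iff_pow_eq_one.mp (he ▸ (pow_dvd_pow p (show e ≤ 1 by omega)).trans
      (pow_one p).dvd)
  obtain ⟨m, rfl⟩ : ∃ m, e = m + 2 := ⟨e - 2, by omega⟩
  set z' := x ^ p ^ (m + 1) with hz'
  have hz'p : z' ^ p = 1 := by rw [hz', ← pow_mul, ← pow_succ, ← he, pow_orderOf_eq_one]
  have hz'1 : z' ≠ 1 := fun h => by
    have := Nat.le_of_dvd (pow_pos hp.out.pos _) (he ▸ orderOf_dvd_of_pow_eq_one h)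
    exact absurd this (not_le.mpr (Nat.pow_lt_pow_right hp.out.one_lt (by omega)))
  have hz'c : z' ∈ center G := by
    rw [hz', pow_succ, pow_mul]
    refine hB _ (pow_mem hxC _) ?_
    rw [← pow_mul, ← pow_add, ← he, pow_orderOf_eq_one]
  have hz'W : z' ∈ W := D.omega _ (pow_mem hxC _) hz'p
  obtain ⟨i₁, j₁, hij₁⟩ := hspan z' hz'W
  obtain ⟨d₁, hd₁⟩ := hdvd i₁ j₁ (hij₁ ▸ hz'c)
  rw [hd₁, pow_mul, hw₁p, one_pow, one_mul] at hij₁
  have hj₁ : ¬ p ∣ j₁ := fun ⟨d, hd⟩ => hz'1 (by rw [hij₁, hd, pow_mul, hzp, one_pow])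
  obtain ⟨s₁, hs₁⟩ := exists_pow_eq_self_of_coprime (x := z) (n := j₁) (by
    rw [orderOf_eq_prime hzp hz1]
    exact (hp.out.coprime_iff_not_dvd.mpr hj₁).symm)
  rw [← hij₁] at hs₁
  have hcx : ∀ v ∈ W, Commute x v := fun v hv => le_center_of_mem_centralizer hv hxC
  -- the order of `G`
  have hn4 : n = m + 4 := by
    let F : Fin (p ^ (m + 2)) × Fin p → C := fun ki =>
      ⟨x ^ (ki.1 : ℕ) * w₁ ^ (ki.2 : ℕ), mul_mem (pow_mem hxC _) (D.le_centralizer (pow_mem hw₁ _))⟩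
    have hF : Function.Bijective F := by
      constructor
      · rintro ⟨k, i⟩ ⟨k', i'⟩ h
        have h' : x ^ (k : ℕ) * w₁ ^ (i : ℕ) = x ^ (k' : ℕ) * w₁ ^ (i' : ℕ) := congrArg Subtype.val h
        have h2 : x ^ (-(k' : ℤ) + k) = w₁ ^ (i' : ℕ) * (w₁ ^ (i : ℕ))⁻¹ := by
          rw [zpow_add, zpow_neg, zpow_natCast, zpow_natCast, eq_mul_inv_iff_mul_eq, mul_assoc, h',
            inv_mul_cancel_left]
        have hxW' : x ^ (-(k' : ℤ) + k) ∈ W := h2 ▸ mul_mem (pow_mem hw₁ _) (inv_mem (pow_mem hw₁ _))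
        have hdiv : ((p ^ (m + 1) : ℕ) : ℤ) ∣ -(k' : ℤ) + k := by
          have h3 := D.elem.2 _ hxW'
          rw [← zpow_natCast, ← zpow_mul, ← orderOf_dvd_iff_zpow_eq_one, he] at h3
          push_cast at h3 ⊢
          rw [pow_succ] at h3
          exact Int.dvd_of_mul_dvd_mul_right (Int.natCast_ne_zero.mpr hp.out.ne_zero) h3
        obtain ⟨d, hd⟩ := hdiv
        have hcent : w₁ ^ ((i' : ℕ) + (p - i)) * z ^ 0 ∈ center G := by
          rw [pow_zero, mul_one, pow_add,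
            show w₁ ^ (p - (i : ℕ)) = (w₁ ^ (i : ℕ))⁻¹ from eq_inv_of_mul_eq_one_left
              (by rw [← pow_add, Nat.sub_add_cancel i.2.le, hw₁p]),
            ← h2, hd, zpow_mul, zpow_natCast]
          exact zpow_mem hz'c d
        obtain ⟨d', hd'⟩ := hdvd _ _ hcent
        have hii : (i : ℕ) = i' := by
          have := i.2
          have := i'.2
          rcases Nat.lt_or_ge d' 2 with hd2 | hd2
          · interval_cases d' <;> omega
          · have : 2 * p ≤ p * d' := by rw [mul_comm]; exact Nat.mul_le_mul_left p hd2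
            omega
        obtain rfl : i = i' := Fin.ext hii
        have hkk := pow_injOn_Iio_orderOf (by rw [he]; exact k.2) (by rw [he]; exact k'.2)
          (mul_right_cancel h')
        rw [Fin.ext hkk]
      · rintro ⟨c, hc⟩
        obtain ⟨k, v, hv, rfl⟩ := hgen c hc
        obtain ⟨i, j, rfl⟩ := hspan v hv
        refine ⟨(⟨(k + p ^ (m + 1) * (s₁ * j)) % p ^ (m + 2), Nat.mod_lt _ (pow_pos hp.out.pos _)⟩,
          ⟨i % p, Nat.mod_lt _ hp.out.pos⟩), Subtype.ext ?_⟩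
        show x ^ ((k + p ^ (m + 1) * (s₁ * j)) % p ^ (m + 2)) * w₁ ^ (i % p) = _
        rw [← he, pow_mod_orderOf, pow_add, pow_mul, ← hz', pow_mul, hs₁,
          ← pow_eq_pow_of_dvd_sub hw₁p (Nat.mod_modEq i p).symm, mul_assoc, ((hzcomm _).pow_left j).eq]
    have hcardC : Nat.card C = p ^ (m + 3) := by
      rw [← Nat.card_congr (Equiv.ofBijective F hF), Nat.card_prod, Nat.card_fin, Nat.card_fin]
      ring
    have h := D.card_eq hG
    rw [hn, ← hC, hcardC, ← pow_succ'] at h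
    exact Nat.pow_right_injective hp.out.two_le h
  subst hn4
  have e1 : m + 4 - 2 = m + 2 := by omega
  have e2 : m + 4 - 3 = m + 1 := by omega
  rw [e1, e2]
  set v := ⁅a, x⁆ with hv
  have hvW : v ∈ W := by rw [hv, ← commutatorElement_inv]; exact inv_mem (haW x)
  have hax : a * x * a⁻¹ = v * x := by rw [hv, commutatorElement_def]; group
  obtain ⟨α, β, hαβ⟩ := hspan v hvW
  have hxo : x ^ p ^ (m + 2) = 1 := by rw [← he, pow_orderOf_eq_one]
  by_cases hα : p ∣ α
  · left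
    obtain ⟨dα, rfl⟩ := hα
    rw [pow_mul, hw₁p, one_pow, one_mul] at hαβ
    obtain ⟨p', hp'⟩ : ∃ p', p = p' + 1 := ⟨p - 1, by have := hp.out.pos; omega⟩
    set z₃ := x * w₁ ^ (p' * β) with hz₃
    have hxw : Commute x (w₁ ^ (p' * β)) := hcx _ (pow_mem hw₁ _)
    have hz₃p : z₃ ^ p = x ^ p := by
      rw [hz₃, hxw.mul_pow, ← pow_mul, mul_comm _ p, pow_mul w₁ p, hw₁p, one_pow, mul_one]
    have hz₃z : z₃ ^ p ^ (m + 1) = z' := by
      rw [pow_succ', pow_mul, hz₃p, ← pow_mul, ← pow_succ', hz']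
    have haz : a * z₃ * a⁻¹ = z₃ := by
      rw [hz₃, ← conj_mul, hax, ← conj_pow, hconj, (hzcomm w₁).mul_pow, hαβ]
      calc z ^ β * x * (z ^ (p' * β) * w₁ ^ (p' * β))
          = x * (z ^ β * z ^ (p' * β)) * w₁ ^ (p' * β) := by
            rw [((hzcomm x).pow_left β).eq]; simp only [mul_assoc]
        _ = x * w₁ ^ (p' * β) := by
            rw [← pow_add, show β + p' * β = p * β by rw [hp']; ring, pow_mul, hzp, one_pow, mul_one]
    refine ⟨by omega, a⁻¹, w₁ ^ j₁, z₃, ?_, by rw [inv_pow, hap, inv_one],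
      by rw [← pow_mul, mul_comm, pow_mul, hw₁p, one_pow], ?_, ?_, ?_, ?_⟩
    · set H := Subgroup.closure ({a⁻¹, w₁ ^ j₁, z₃} : Set G) with hH
      have h1 : a ∈ H := by
        simpa [hH] using inv_mem (Subgroup.subset_closure (by simp) : a⁻¹ ∈ Subgroup.closure ({a⁻¹, w₁ ^ j₁, z₃} : Set G))
      have h3 : z₃ ∈ H := subset_closure (by simp)
      have hz'H : z' ∈ H := hz₃z ▸ pow_mem h3 _
      have h2 : w₁ ∈ H := by
        obtain ⟨s, hs⟩ := exists_pow_eq_self_of_coprime (x := w₁) (n := j₁)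
          (((hp.out.coprime_iff_not_dvd.mpr hj₁).symm).coprime_dvd_right
            (orderOf_dvd_of_pow_eq_one hw₁p))
        exact hs ▸ pow_mem (subset_closure (by simp)) s
      refine hgenG H h1 h2 (hs₁ ▸ pow_mem hz'H s₁) ?_
      have : x = z₃ * (w₁ ^ (p' * β))⁻¹ := by rw [hz₃, mul_inv_cancel_right]
      rw [this]; exact mul_mem h3 (inv_mem (pow_mem h2 _))
    · rw [pow_succ', pow_mul, hz₃p, ← pow_mul, ← pow_succ', hxo]
    · exact ((show Commute a z₃ from mul_inv_eq_iff_eq_mul.mp haz).inv_left).eq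
    · exact ((hcx w₁ hw₁).symm.pow_left j₁ |>.mul_right
        (((Commute.refl w₁).pow_left j₁).pow_right (p' * β))).eq
    · rw [hz₃z, inv_inv, ← conj_pow, hconj, (hzcomm w₁).mul_pow, ← hij₁,
        ((Subgroup.mem_center_iff.mp hz'c) (w₁ ^ j₁)).symm]
  right
  refine ⟨by omega, ?_⟩
  set s₀ := s₁ * α with hs₀
  have hzα : z' ^ s₀ = z ^ α := by rw [hs₀, pow_mul, hs₁]
  have hav : a * v * a⁻¹ = z ^ α * v := by
    rw [hαβ, ← conj_mul, ← conj_pow, hconj, (hzcomm w₁).mul_pow,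
      ← ((hzcomm a).pow_left β).eq, mul_inv_cancel_right, mul_assoc]
  have hs₁p : ¬ p ∣ s₁ := fun ⟨d, hd⟩ => hz1 (by rw [← hs₁, hd, pow_mul, hz'p, one_pow])
  have hs₀p : ¬ p ∣ s₀ := fun h => (hp.out.dvd_mul.mp h).elim hs₁p hα
  obtain ⟨l, s, hl, hs, hls⟩ : ∃ l s : ℕ, ¬ p ∣ l ∧ (s = 1 ∨ ¬ IsSquare (s : ZMod p)) ∧
      s ≡ s₀ * (l * l) [MOD p] := by
    by_cases hsq : IsSquare (s₀ : ZMod p)
    · obtain ⟨r, hr⟩ := hsq
      have hr0 : r ≠ 0 := fun h => hs₀p ((ZMod.natCast_eq_zero_iff _ _).mp (by rw [hr, h, mul_zero]))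
      refine ⟨r⁻¹.val, 1, fun h => hr0 (inv_eq_zero.mp ?_), Or.inl rfl, ?_⟩
      · rw [← ZMod.natCast_zmod_val r⁻¹]; exact (ZMod.natCast_eq_zero_iff _ _).mpr h
      · rw [← ZMod.natCast_eq_natCast_iff]
        push_cast
        rw [hr, ZMod.natCast_zmod_val]
        field_simp
    · exact ⟨1, s₀, hp.out.not_dvd_one, Or.inr hsq, by simp [Nat.ModEq.refl]⟩
  have hvp : v ^ p = 1 := D.elem.2 v hvW
  have htv : ∀ t, a ^ t * v * (a ^ t)⁻¹ = z ^ (α * t) * v := by
    intro t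
    induction t with
    | zero => simp
    | succ t ih =>
      rw [conj_pow_succ, ih, ← conj_mul, hav, ← ((hzcomm a).pow_left (α * t)).eq,
        mul_inv_cancel_right, ← mul_assoc, ← pow_add, mul_add, mul_one]
  have htx : ∀ t, a ^ t * x * (a ^ t)⁻¹ = z ^ (α * t.choose 2) * v ^ t * x := by
    intro t
    induction t with
    | zero => simp
    | succ t ih =>
      rw [conj_pow_succ, ih, ← conj_mul, ← conj_mul, hax, ← conj_pow (a := a) (b := v), hav,
        ((hzcomm v).pow_left α).mul_pow, ← ((hzcomm a).pow_left (α * t.choose 2)).eq,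
        mul_inv_cancel_right, ← pow_mul,
        show (t + 1).choose 2 = t.choose 2 + t by
          rw [Nat.choose_succ_succ' t 1, Nat.choose_one_right, add_comm], mul_add, pow_add z,
        pow_succ v t]
      simp only [mul_assoc]
  set y := z ^ (α * l.choose 2) * v ^ l with hy
  have hyW : y ∈ W := mul_mem (pow_mem hzW _) (pow_mem hvW _)
  refine ⟨s, (a ^ l)⁻¹, y, x, hs, ?_,
    by rw [inv_pow, ← pow_mul, mul_comm, pow_mul, hap, one_pow, inv_one],
    D.elem.2 y hyW, hxo, (hcx y hyW).symm.eq, ?_, ?_⟩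
  · set H := Subgroup.closure ({(a ^ l)⁻¹, y, x} : Set G) with hH
    have h3 : x ∈ H := subset_closure (by simp)
    have h1 : a ∈ H := by
      obtain ⟨s', hs'⟩ := exists_pow_eq_self_of_coprime (x := a) (n := l)
        (((hp.out.coprime_iff_not_dvd.mpr hl).symm).coprime_dvd_right (orderOf_dvd_of_pow_eq_one hap))
      rw [← hs']
      refine pow_mem ?_ s'
      simpa [hH] using inv_mem (Subgroup.subset_closure (by simp) : (a ^ l)⁻¹ ∈ Subgroup.closure ({(a ^ l)⁻¹, y, x} : Set G))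
    have hz'H : z' ∈ H := by rw [hz']; exact pow_mem h3 _
    have hzH : z ∈ H := hs₁ ▸ pow_mem hz'H s₁
    have hyH : y ∈ H := subset_closure (by simp)
    have hvH : v ^ l ∈ H := by
      have := mul_mem (inv_mem (pow_mem hzH (α * l.choose 2))) hyH
      rwa [hy, inv_mul_cancel_left] at this
    obtain ⟨s', hs'⟩ := exists_pow_eq_self_of_coprime (x := v) (n := l)
      (((hp.out.coprime_iff_not_dvd.mpr hl).symm).coprime_dvd_right (orderOf_dvd_of_pow_eq_one hvp))
    have hvH' : v ∈ H := hs' ▸ pow_mem hvH s'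
    have hwα : w₁ ^ α ∈ H := by
      have := mul_mem hvH' (inv_mem (pow_mem hzH β))
      rwa [hαβ, mul_inv_cancel_right] at this
    obtain ⟨s'', hs''⟩ := exists_pow_eq_self_of_coprime (x := w₁) (n := α)
      (((hp.out.coprime_iff_not_dvd.mpr hα).symm).coprime_dvd_right (orderOf_dvd_of_pow_eq_one hw₁p))
    exact hgenG H h1 (hs'' ▸ pow_mem hwα s'') hzH h3
  · rw [inv_inv, hy, ← conj_mul, ← conj_pow (a := a ^ l) (b := v), htv,
      ((hzcomm v).pow_left (α * l)).mul_pow, ← ((hzcomm (a ^ l)).pow_left (α * l.choose 2)).eq,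
      mul_inv_cancel_right]
    have e3 : (z ^ (α * l)) ^ l = x ^ (s * p ^ (m + 1)) := by
      rw [mul_comm s, pow_mul x, ← hz', pow_eq_pow_of_dvd_sub hz'p hls, pow_mul z' s₀, hzα,
        ← pow_mul, ← pow_mul, mul_assoc]
    rw [e3]
    have hc : Commute (x ^ (s * p ^ (m + 1))) (v ^ l) := ((hcx v hvW).pow_left _).pow_right _
    rw [hc.eq, mul_assoc]
  · rw [inv_inv, htx]

end CfsgLib.RankTwoP
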